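import Mathlib.CategoryTheory.Triangulated.TStructure.TruncLEGT
import Mathlib.CategoryTheory.Triangulated.TStructure.Heart
import Mathlib.CategoryTheory.Triangulated.Subcategory

/-!
# Truncations and Verdier quotients

A triangulated subcategory stable under cohomology objects, whose heart part is closed under
subobjects and quotients, gives a quotient in which the t-structure survives.
-/

set_option autoImplicit false
set_option backward.isDefEq.respectTransparency false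
set_option backward.defeqAttrib.useBackward true

universe v u v' u'

open CategoryTheory CategoryTheory.Limits CategoryTheory.Pretriangulated CategoryTheory.Triangulated

namespace Groth.Agent.PervQuot

variable {C : Type u} [Category.{v} C] [Preadditive C] [HasZeroObject C] [HasShift C ℤ]
  [∀ n : ℤ, (shiftFunctor C n).Additive] [Pretriangulated C] [IsTriangulated C]
  {t : TStructure C} {D : ObjectProperty C} [D.IsTriangulated] [D.IsClosedUnderIsomorphisms]

/-- `D` is stable under upper truncation of bounded below objects. -/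
theorem truncGE_mem (h1 : ∀ X : C, D X → ∀ n : ℤ, D ((t.truncGELE n n).obj X)) :
    ∀ (k : ℕ) (a : ℤ) (X : C), D X → t.IsGE X a → D ((t.truncGE (a + k)).obj X) := by
  intro k
  induction k with
  | zero =>
    intro a X hX _
    exact D.prop_of_iso (asIso ((t.truncGEπ a).app X) ≪≫ eqToIso (by simp)) hX
  | succ k ih =>
    intro a X hX _
    have hle : D ((t.truncLE a).obj X) :=
      D.prop_of_iso (asIso ((t.truncGEπ a).app ((t.truncLE a).obj X))).symm (h1 X hX a)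
    have hgt : D ((t.truncGT a).obj X) := D.ext_of_isTriangulatedClosed₃ ((t.triangleLEGT _).obj _) (t.triangleLEGT_distinguished a X) hle hX
    have h := ih (a + 1) _ hgt (t.isGE_truncGT_obj X a (a + 1))
    haveI := t.isIso_truncGE_map_truncGEπ_app (a + 1 + k) (a + 1) (by omega) X
    refine D.prop_of_iso ?_ h
    exact (asIso ((t.truncGE (a + 1 + k)).map ((t.truncGEπ (a + 1)).app X))).symm ≪≫ eqToIso (congrArg (fun m => (t.truncGE m).obj X) (by push_cast; omega))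

/-- `D` is stable under truncation. -/
theorem truncGE_zero_mem (hb : ∀ X : C, t.bounded X) (h1 : ∀ X : C, D X → ∀ n : ℤ, D ((t.truncGELE n n).obj X))
    {X : C} (hX : D X) : D ((t.truncGE 0).obj X) := by
  obtain ⟨a, ha⟩ := (hb X).1
  haveI : t.IsGE X a := ha
  haveI : t.IsGE X (min a 0) := t.isGE_of_ge X _ a (min_le_left _ _)
  have := truncGE_mem h1 (0 - min a 0).toNat (min a 0) X hX inferInstance
  rwa [Int.toNat_of_nonneg (by omega), add_sub_cancel] at this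

variable (hb : ∀ X : C, t.bounded X) (h1 : ∀ X : C, D X → ∀ n : ℤ, D ((t.truncGELE n n).obj X))
  (h2 : ∀ (X Y Z : C) (f : X ⟶ Y) (g : Y ⟶ Z) (h : Z ⟶ X⟦(1 : ℤ)⟧),
    Triangle.mk f g h ∈ distTriang C → t.heart X → t.heart Y → t.heart Z → D Y → D X ∧ D Z)

include hb h1 h2 in
/-- The non-negative part of the cone of a map from a non-positive object into `D` is in `D`. -/
theorem truncGE_cone_mem {X Z W : C} {f : X ⟶ Z} {g : Z ⟶ W} {δ : W ⟶ X⟦(1 : ℤ)⟧}
    (hT : Triangle.mk f g δ ∈ distTriang C) [t.IsLE X 0] (hZ : D Z) : D ((t.truncGE 0).obj W) := by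
  have hX1 : t.IsLE (X⟦(1 : ℤ)⟧) (-1) := t.isLE_shift X 0 1 (-1) (by omega)
  obtain ⟨F, u, v, hF⟩ := distinguished_cocone_triangle (g ≫ (t.truncGEπ 0).app W)
  let O₁ := someOctahedron rfl (rot_of_distTriang _ hT)
    (rot_of_distTriang _ (t.triangleLTGE_distinguished 0 W)) hF
  have hlW : t.IsLE (((t.truncLT 0).obj W)⟦(1 : ℤ)⟧) (-1) := by
    haveI := t.isLE_truncLT_obj W 0 0
    exact t.isLE_shift _ 0 1 (-1) (by omega)
  have hF1 : t.IsLE F (-1) := t.isLE₂ _ O₁.mem (-1) hX1 hlW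
  obtain ⟨G, u₀, v₀, hG⟩ := distinguished_cocone_triangle (t.descTruncGE (g ≫ (t.truncGEπ 0).app W) 0)
  let O₂ := someOctahedron (t.π_descTruncGE (g ≫ (t.truncGEπ 0).app W) 0)
    (rot_of_distTriang _ (t.triangleLTGE_distinguished 0 Z)) hG hF
  have hlZ : t.IsLE ((((t.truncLT 0).obj Z)⟦(1 : ℤ)⟧)⟦(1 : ℤ)⟧) (-1) := by
    haveI := t.isLE_truncLT_obj Z 0 0
    haveI := t.isLE_shift ((t.truncLT 0).obj Z) 0 1 (-1) (by omega)
    haveI := t.isLE_shift (((t.truncLT 0).obj Z)⟦(1 : ℤ)⟧) (-1) 1 (-2) (by omega)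
    exact t.isLE_of_le _ (-2) (-1)
  have hG1 : t.IsLE G (-1) := t.isLE₂ _ (rot_of_distTriang _ O₂.mem) (-1) hF1 hlZ
  have hG2 : t.IsGE G (-1) := t.isGE₂ _ (rot_of_distTriang _ hG) (-1)
    (t.isGE_of_ge ((t.truncGE 0).obj W) (-1) 0) (t.isGE_shift ((t.truncGE 0).obj Z) 0 1 (-1) (by omega))
  have hK : t.IsLE (G⟦(-1 : ℤ)⟧) 0 := t.isLE_shift G (-1) (-1) 0 (by omega)
  have hK' : t.IsGE (G⟦(-1 : ℤ)⟧) 0 := t.isGE_shift G (-1) (-1) 0 (by omega)
  let T := (Triangle.mk (t.descTruncGE (g ≫ (t.truncGEπ 0).app W) 0) u₀ v₀).invRotate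
  have hTd : T ∈ distTriang C := inv_rot_of_distTriang _ hG
  haveI : t.IsLE T.obj₁ 0 := hK
  obtain ⟨V, a, b, hV⟩ := distinguished_cocone_triangle (t.liftTruncLE T.mor₁ 0)
  let O₃ := someOctahedron (t.liftTruncLE_ι T.mor₁ 0) hV (t.triangleLEGT_distinguished 0 ((t.truncGE 0).obj Z)) hTd
  have hZ0 : D ((t.truncGE 0).obj Z) := truncGE_zero_mem hb h1 hZ
  have hB : D ((t.truncLE 0).obj ((t.truncGE 0).obj Z)) :=
    D.prop_of_iso ((t.truncGELEIsoLEGE 0 0).app Z) (h1 Z hZ 0)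
  have hP : D ((t.truncGT 0).obj ((t.truncGE 0).obj Z)) :=
    D.ext_of_isTriangulatedClosed₃ ((t.triangleLEGT _).obj _) (t.triangleLEGT_distinguished 0 ((t.truncGE 0).obj Z)) hB hZ0
  have hK1 : t.IsLE (T.obj₁⟦(1 : ℤ)⟧) 0 := by
    haveI := t.isLE_shift T.obj₁ 0 1 (-1) (by omega)
    exact t.isLE_of_le _ (-1) 0
  have hV1 : t.IsLE V 0 := t.isLE₂ _ (rot_of_distTriang _ hV) 0
    (inferInstanceAs (t.IsLE ((t.truncLE 0).obj ((t.truncGE 0).obj Z)) 0)) hK1
  have hP1 : t.IsGE (((t.truncGT 0).obj ((t.truncGE 0).obj Z))⟦(-1 : ℤ)⟧) 0 := by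
    haveI := t.isGE_truncGT_obj ((t.truncGE 0).obj Z) 0 1
    haveI := t.isGE_shift ((t.truncGT 0).obj ((t.truncGE 0).obj Z)) 1 (-1) 2 (by omega)
    exact t.isGE_of_ge _ 0 2
  have hV2 : t.IsGE V 0 := t.isGE₂ _ (inv_rot_of_distTriang _ O₃.mem) 0 hP1
    (inferInstanceAs (t.IsGE ((t.truncGE 0).obj W) 0))
  have hDV : D V := (h2 _ _ _ _ _ _ hV ((t.mem_heart_iff _).2 ⟨hK, hK'⟩)
    ((t.mem_heart_iff _).2 ⟨inferInstanceAs (t.IsLE ((t.truncLE 0).obj ((t.truncGE 0).obj Z)) 0),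
      inferInstanceAs (t.IsGE ((t.truncLE 0).obj ((t.truncGE 0).obj Z)) 0)⟩) ((t.mem_heart_iff _).2 ⟨hV1, hV2⟩) hB).2
  exact D.ext_of_isTriangulatedClosed₂ _ O₃.mem hDV hP

include hb h1 h2 in
/-- Every map from a non-positive to a positive object becomes zero in the quotient by `D`. -/
theorem map_eq_zero {E : Type u'} [Category.{v'} E] [Preadditive E] (q : C ⥤ E) [q.PreservesZeroMorphisms]
    [q.IsLocalization D.trW] {X Y : C} [t.IsLE X 0] [t.IsGE Y 1] (φ : q.obj X ⟶ q.obj Y) : φ = 0 := by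
  obtain ⟨ρ, rfl⟩ := Localization.exists_rightFraction q D.trW φ
  obtain ⟨Z, g, δ, hT, hZ⟩ := ρ.hs
  have hD := truncGE_cone_mem hb h1 h2 (X := X) (rot_of_distTriang _ hT) hZ
  let W : C := ρ.X'⟦(1 : ℤ)⟧
  let w : ((t.truncLT 0).obj W)⟦(-1 : ℤ)⟧ ⟶ ρ.X' :=
    ((t.truncLTι 0).app W)⟦(-1 : ℤ)⟧' ≫ ((shiftEquiv C (1 : ℤ)).unitIso.app ρ.X').inv
  have hw : D.trW w := by
    have h : D.trW ((t.truncLTι 0).app W) := ObjectProperty.trW.mk D (t.triangleLTGE_distinguished 0 W) hD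
    exact (D.trW.cancel_right_of_respectsIso _ _).2 (h.shift (-1))
  haveI : t.IsLE (((t.truncLT 0).obj W)⟦(-1 : ℤ)⟧) 0 := by
    haveI := t.isLE_truncLT_obj W 0 (-1)
    exact t.isLE_shift _ (-1) (-1) 0 (by omega)
  haveI : IsIso (q.map w) := Localization.inverts q D.trW w hw
  have h0 : q.map ρ.f = 0 := by
    rw [← cancel_epi (q.map w), comp_zero, ← q.map_comp, t.zero_of_isLE_of_isGE (w ≫ ρ.f) 0 1 (by omega)
      inferInstance inferInstance, q.map_zero]
  rw [MorphismProperty.RightFraction.map, h0, comp_zero]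

end Groth.Agent.PervQuot
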